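import Groth.Agent.Lib.DimForm6.Params
import Groth.Agent.Lib.AffDom.Formula
import Groth.Agent.Lib.Dim.Ring
import Mathlib.RingTheory.LocalRing.Module
import Mathlib.RingTheory.Ideal.MinimalPrime.Localization
import Mathlib.RingTheory.Localization.Algebra

/-!
# The dimension formula for flat local homomorphisms
-/

set_option autoImplicit false
set_option linter.style.haveILetI false
set_option backward.isDefEq.respectTransparency false

universe u

open IsLocalRing MvPolynomial

namespace GrothLib.DimForm6

/-- The transcendence degree does not change when passing to fractions. -/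
theorem trdeg_eq_of_fractions {k D F : Type u} [CommRing k] [IsDomain k] [CommRing D] [IsDomain D] [CommRing F]
    [IsDomain F] [Algebra k D] [Algebra D F] [Algebra k F] [IsScalarTower k D F] [FaithfulSMul k D]
    [FaithfulSMul D F] (h : ∀ y : F, ∃ a s : D, s ≠ 0 ∧ algebraMap D F s * y = algebraMap D F a) :
    Algebra.trdeg k D = Algebra.trdeg k F := by
  haveI : Algebra.IsAlgebraic D F := ⟨fun y => by
    obtain ⟨a, s, hs, hy⟩ := h y
    exact IsAlgebraic.of_mul (mem_nonZeroDivisors_of_ne_zero
      ((map_ne_zero_iff _ (FaithfulSMul.algebraMap_injective D F)).2 hs))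
      (isAlgebraic_algebraMap s) (hy ▸ isAlgebraic_algebraMap a)⟩
  have h2 := trdeg_add_eq k D (A := F)
  rwa [trdeg_eq_zero (R := D) (A := F), add_zero] at h2

/-- The dimension formula for local domains essentially of finite type over a field. -/
theorem ringKrullDim_add_trdeg_residueField (k D : Type u) [Field k] [CommRing D] [IsDomain D] [IsLocalRing D]
    [Algebra k D] [Algebra.EssFiniteType k D] :
    ∃ h e r : ℕ, ringKrullDim D = h ∧ Algebra.trdeg k (ResidueField D) = e ∧ Algebra.trdeg k D = r ∧ h + e = r := by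
  let D₀ := Algebra.EssFiniteType.subalgebra k D
  let q : Ideal D₀ := (maximalIdeal D).comap D₀.val.toRingHom
  have hfrac : ∀ y : D, ∃ a s : D₀, IsUnit (s : D) ∧ (s : D) * y = a := fun y => by
    obtain ⟨⟨z, w⟩, hzw⟩ := IsLocalization.surj (Algebra.EssFiniteType.submonoid k D) y
    exact ⟨z, w.1, w.2, (mul_comm _ _).trans hzw⟩
  haveI : IsLocalization.AtPrime D q :=
    { map_units := fun s => not_not.1 fun h => s.2 h
      surj := fun y => by
        obtain ⟨a, s, hu, hsy⟩ := hfrac y
        exact ⟨⟨a, ⟨s, fun h => h hu⟩⟩, (mul_comm y (s : D)).trans hsy⟩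
      exists_of_eq := fun h => ⟨1, by rw [Subtype.ext h]⟩ }
  obtain ⟨r, hr, hrdim⟩ := GrothLib.Dim.exists_nat_trdeg_eq_and_ringKrullDim_eq k D₀
  obtain ⟨e, he, hedim⟩ := GrothLib.Dim.exists_nat_trdeg_eq_and_ringKrullDim_eq k (D₀ ⧸ q)
  have hform := GrothLib.AffDom.height_add_ringKrullDim_quotient k D₀ q
  rw [hedim, hrdim, ← IsLocalization.AtPrime.ringKrullDim_eq_height q D] at hform
  haveI : IsNoetherianRing D := Algebra.EssFiniteType.isNoetherianRing k D
  obtain ⟨h, hh⟩ : ∃ h : ℕ, ringKrullDim D = h := by
    obtain ⟨m, hm⟩ := ENat.ne_top_iff_exists.1 (Ideal.height_ne_top (I := maximalIdeal D) Ideal.IsPrime.ne_top')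
    exact ⟨m, by rw [← IsLocalRing.maximalIdeal_height_eq_ringKrullDim, ← hm]; rfl⟩
  rw [hh] at hform
  refine ⟨h, e, r, hh, ?_, ?_, by exact_mod_cast hform⟩
  · let ψ : D₀ ⧸ q →+* ResidueField D := Ideal.Quotient.lift q ((residue D).comp D₀.val.toRingHom)
      fun a ha => (residue_eq_zero_iff _).2 ha
    letI : Algebra (D₀ ⧸ q) (ResidueField D) := ψ.toAlgebra
    haveI : IsScalarTower k (D₀ ⧸ q) (ResidueField D) :=
      IsScalarTower.of_algebraMap_eq (R := k) (S := D₀ ⧸ q) (A := ResidueField D) fun a => rfl
    haveI : FaithfulSMul (D₀ ⧸ q) (ResidueField D) := (faithfulSMul_iff_algebraMap_injective _ _).2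
      ((injective_iff_map_eq_zero _).2 fun x hx => by
        obtain ⟨x, rfl⟩ := Ideal.Quotient.mk_surjective x
        exact Ideal.Quotient.eq_zero_iff_mem.2 ((residue_eq_zero_iff _).1 hx))
    rw [← he]
    refine (trdeg_eq_of_fractions fun y => ?_).symm
    obtain ⟨y, rfl⟩ := residue_surjective y
    obtain ⟨a, s, hu, hsy⟩ := hfrac y
    refine ⟨Ideal.Quotient.mk q a, Ideal.Quotient.mk q s, fun h => Ideal.Quotient.eq_zero_iff_mem.1 h hu, ?_⟩
    show residue D s * residue D y = residue D a
    rw [← map_mul, hsy]
  · rw [← hr]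
    haveI : FaithfulSMul D₀ D := (faithfulSMul_iff_algebraMap_injective _ _).2 Subtype.val_injective
    refine (trdeg_eq_of_fractions fun y => ?_).symm
    obtain ⟨a, s, hu, hsy⟩ := hfrac y
    exact ⟨a, s, fun h => hu.ne_zero (congrArg Subtype.val h), hsy⟩

variable {A B : Type u} [CommRing A] [IsDomain A] [CommRing B] [IsDomain B] [IsLocalRing A] [IsLocalRing B]
    [Algebra A B] [IsLocalHom (algebraMap A B)] [FaithfulSMul A B] [Algebra.EssFiniteType A B] [Module.Flat A B]

/-- Over a flat map with zero-dimensional closed fibre the transcendence degree is read off the residue fields. -/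
theorem trdeg_eq_trdeg_residueField
    (hmin : ∀ q : Ideal B, q.IsPrime → Ideal.map (algebraMap A B) (maximalIdeal A) ≤ q → q = maximalIdeal B) :
    Algebra.trdeg A B = Algebra.trdeg (ResidueField A) (ResidueField B) := by
  classical
  obtain ⟨ι, t, ht⟩ := exists_isTranscendenceBasis' (ResidueField A) (ResidueField B)
  haveI : Algebra.EssFiniteType (ResidueField A) (ResidueField B) := by
    haveI : Algebra.EssFiniteType A (ResidueField B) := inferInstanceAs (Algebra.EssFiniteType A (B ⧸ maximalIdeal B))
    exact Algebra.EssFiniteType.of_comp A (ResidueField A) (ResidueField B)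
  obtain ⟨-, e, -, -, he, -, -⟩ := ringKrullDim_add_trdeg_residueField (ResidueField A) (ResidueField B)
  haveI : Finite ι := by
    have hfin : Algebra.trdeg (ResidueField A) (ResidueField B) < Cardinal.aleph0 := by
      let D₀ := Algebra.EssFiniteType.subalgebra (ResidueField A) (ResidueField B)
      haveI : FaithfulSMul D₀ (ResidueField B) := (faithfulSMul_iff_algebraMap_injective _ _).2 Subtype.val_injective
      rw [← trdeg_eq_of_fractions (k := ResidueField A) (D := D₀) (F := ResidueField B) fun y => by
        obtain ⟨⟨z, w⟩, hzw⟩ := IsLocalization.surj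
          (Algebra.EssFiniteType.submonoid (ResidueField A) (ResidueField B)) y
        exact ⟨z, w.1, fun h => (IsUnit.ne_zero w.2) (congrArg Subtype.val h), (mul_comm _ _).trans hzw⟩]
      exact trdeg_lt_aleph0_of_finiteType
    rw [← ht.cardinalMk_eq_trdeg] at hfin
    exact Cardinal.mk_lt_aleph0_iff.1 hfin
  choose τ hτ using residue_surjective (R := B)
  let x : ι → B := fun i => τ (t i)
  have hx : (fun o => residue B (x o)) = t := funext fun o => hτ (t o)
  obtain ⟨-, halg⟩ := fractions_of_parameters (A := A) x (fun q hq h1 _ => hmin q hq h1)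
    (hx ▸ ht.isAlgebraic)
  have hind : AlgebraicIndependent A x := by
    rw [algebraicIndependent_iff_injective_aeval]
    have hli : LinearIndependent A fun m : ι →₀ ℕ => aeval (R := A) x (monomial m 1) := by
      refine Module.IsLocalRing.linearIndependent_of_flat _ ?_
      let L : TensorProduct A (ResidueField A) B →ₗ[ResidueField A] ResidueField B :=
        (Algebra.TensorProduct.lift (Algebra.ofId (ResidueField A) (ResidueField B))
          (IsScalarTower.toAlgHom A B (ResidueField B)) fun _ _ => Commute.all _ _).toLinearMap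
      refine LinearIndependent.of_comp L ?_
      have h1 : LinearIndependent (ResidueField A) fun m : ι →₀ ℕ => aeval (R := ResidueField A) t (monomial m 1) :=
        (MvPolynomial.basisMonomials ι (ResidueField A)).linearIndependent.map' (aeval t).toLinearMap
          (LinearMap.ker_eq_bot.2 ht.1)
      convert h1 using 1
      funext m
      symm
      show aeval t (monomial m 1) = L (1 ⊗ₜ aeval x (monomial m 1))
      have hL : ∀ b : B, L (1 ⊗ₜ[A] b) = residue B b := fun b => by
        simp [L]
      refine Eq.trans ?_ (hL _).symm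
      rw [aeval_monomial, aeval_monomial, map_mul, map_finsuppProd]
      simp only [map_one, map_pow]
      congr 1
      exact Finsupp.prod_congr fun i _ => by rw [← hτ (t i)]
    intro p q hpq
    rw [← sub_eq_zero]
    have h0 : aeval (R := A) x (p - q) = 0 := by rw [map_sub]; exact sub_eq_zero.2 hpq
    rw [(p - q).as_sum, map_sum] at h0
    ext m
    rw [coeff_zero]
    by_cases hm : m ∈ (p - q).support
    · refine linearIndependent_iff'.1 hli (p - q).support (fun i => (p - q).coeff i) ?_ m hm
      rw [← h0]
      refine Finset.sum_congr rfl fun i _ => ?_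
      rw [← map_smul, smul_monomial, smul_eq_mul, mul_one]
    · exact notMem_support_iff.1 hm
  haveI : Algebra.IsAlgebraic (Algebra.adjoin A (Set.range x)) B := halg
  have htb : IsTranscendenceBasis A x := hind.isTranscendenceBasis_iff_isAlgebraic.2 halg
  rw [← ht.cardinalMk_eq_trdeg, ← htb.cardinalMk_eq_trdeg]

/-- The dimension formula. -/
theorem dim_add_trdeg_of_flat :
    ∃ d e : ℕ, ringKrullDim (B ⧸ Ideal.map (algebraMap A B) (maximalIdeal A)) = d ∧
      Algebra.trdeg (ResidueField A) (ResidueField B) = e ∧ Algebra.trdeg A B = (d + e : ℕ) := by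
  classical
  let I := Ideal.map (algebraMap A B) (maximalIdeal A)
  have hI : I ≤ maximalIdeal B := Ideal.map_le_iff_le_comap.2 fun a ha => (map_mem_nonunits_iff (algebraMap A B) a).2 ha
  have key : ∀ p ∈ I.minimalPrimes, ∃ h e : ℕ, ringKrullDim (B ⧸ p) = h ∧
      Algebra.trdeg (ResidueField A) (ResidueField B) = e ∧ Algebra.trdeg A B = (h + e : ℕ) := by
    intro p hp
    haveI : p.IsPrime := hp.1.1
    have hcp : ∀ a ∈ maximalIdeal A, algebraMap A B a ∈ p := fun a ha => hp.1.2 (Ideal.mem_map_of_mem _ ha)
    let Bp := Localization.AtPrime p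
    haveI : IsLocalHom (algebraMap A Bp) := ⟨fun a ha => by
      by_contra hna
      rw [IsScalarTower.algebraMap_apply A B Bp] at ha
      exact (IsLocalization.AtPrime.isUnit_to_map_iff Bp p _).1 ha (hcp a hna)⟩
    haveI : IsDomain Bp := IsLocalization.isDomain_of_le_nonZeroDivisors Bp p.primeCompl_le_nonZeroDivisors
    have hinjB : Function.Injective (algebraMap B Bp) := IsLocalization.injective Bp p.primeCompl_le_nonZeroDivisors
    haveI : FaithfulSMul B Bp := (faithfulSMul_iff_algebraMap_injective _ _).2 hinjB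
    haveI : FaithfulSMul A Bp := (faithfulSMul_iff_algebraMap_injective _ _).2 (by
      rw [IsScalarTower.algebraMap_eq A B Bp]
      exact hinjB.comp (FaithfulSMul.algebraMap_injective A B))
    haveI : Module.Flat B Bp := IsLocalization.flat Bp p.primeCompl
    haveI : Module.Flat A Bp := Module.Flat.trans A B Bp
    haveI : Algebra.EssFiniteType A Bp := Algebra.EssFiniteType.comp A B Bp
    have h1 := trdeg_eq_trdeg_residueField (A := A) (B := Bp) fun q hq hle => by
      haveI := hq
      refine le_antisymm (le_maximalIdeal hq.ne_top) ?_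
      rw [← Localization.AtPrime.map_eq_maximalIdeal, Ideal.map_le_iff_le_comap]
      refine hp.2 ⟨inferInstance, ?_⟩ ?_
      · rw [Ideal.map_le_iff_le_comap, Ideal.comap_comap, ← IsScalarTower.algebraMap_eq, ← Ideal.map_le_iff_le_comap]
        exact hle
      · intro y hy
        by_contra hyp
        exact hq.ne_top (Ideal.eq_top_of_isUnit_mem q hy (IsLocalization.map_units Bp (⟨y, hyp⟩ : p.primeCompl)))
    rw [← trdeg_eq_of_fractions (k := A) (D := B) (F := Bp) fun y => by
      obtain ⟨⟨a, s⟩, hy⟩ := IsLocalization.surj p.primeCompl y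
      exact ⟨a, s, fun h => s.2 (h ▸ zero_mem p), (mul_comm _ _).trans hy⟩] at h1
    let φ : ResidueField A →+* B ⧸ p := Ideal.Quotient.lift _ (algebraMap A (B ⧸ p)) fun a ha => by
      rw [← Ideal.Quotient.mk_algebraMap]
      exact Ideal.Quotient.eq_zero_iff_mem.2 (hcp a ha)
    letI : Algebra (ResidueField A) (B ⧸ p) := φ.toAlgebra
    haveI : IsScalarTower A (ResidueField A) (B ⧸ p) := IsScalarTower.of_algebraMap_eq fun a => rfl
    haveI : Algebra.EssFiniteType (ResidueField A) (B ⧸ p) := Algebra.EssFiniteType.of_comp A (ResidueField A) (B ⧸ p)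
    haveI : IsLocalRing (B ⧸ p) := IsLocalRing.of_surjective' (Ideal.Quotient.mk p) Ideal.Quotient.mk_surjective
    haveI : FaithfulSMul (ResidueField A) (B ⧸ p) :=
      (faithfulSMul_iff_algebraMap_injective _ _).2 φ.injective
    obtain ⟨h, e, r, hh, he, hr, hsum⟩ := ringKrullDim_add_trdeg_residueField (ResidueField A) (B ⧸ p)
    refine ⟨h, e, hh, ?_, ?_⟩
    · rw [← he]
      haveI : IsLocalHom (Ideal.Quotient.mk p) := IsLocalHom.of_surjective _ Ideal.Quotient.mk_surjective
      letI : Algebra (ResidueField B) (ResidueField (B ⧸ p)) := (ResidueField.map (Ideal.Quotient.mk p)).toAlgebra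
      haveI : IsScalarTower (ResidueField A) (ResidueField B) (ResidueField (B ⧸ p)) :=
        IsScalarTower.of_algebraMap_eq fun a => by
          obtain ⟨a, rfl⟩ := residue_surjective a
          rfl
      haveI : FaithfulSMul (ResidueField B) (ResidueField (B ⧸ p)) :=
        (faithfulSMul_iff_algebraMap_injective _ _).2 (ResidueField.map (Ideal.Quotient.mk p)).injective
      refine trdeg_eq_of_fractions fun y => ?_
      obtain ⟨y, rfl⟩ := residue_surjective y
      obtain ⟨y, rfl⟩ := Ideal.Quotient.mk_surjective y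
      exact ⟨residue B y, 1, one_ne_zero, by rw [map_one, one_mul]; rfl⟩
    · rw [h1, hsum, ← hr]
      let ψ : B ⧸ p →+* ResidueField Bp := Ideal.Quotient.lift p ((residue Bp).comp (algebraMap B Bp)) fun y hy => by
        rw [RingHom.comp_apply, residue_eq_zero_iff]
        exact fun h => (IsLocalization.AtPrime.isUnit_to_map_iff Bp p y).1 h hy
      letI : Algebra (B ⧸ p) (ResidueField Bp) := ψ.toAlgebra
      haveI : IsScalarTower (ResidueField A) (B ⧸ p) (ResidueField Bp) := IsScalarTower.of_algebraMap_eq fun a => by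
        obtain ⟨a, rfl⟩ := residue_surjective a
        rfl
      haveI : FaithfulSMul (B ⧸ p) (ResidueField Bp) := (faithfulSMul_iff_algebraMap_injective _ _).2
        ((injective_iff_map_eq_zero _).2 fun y hy => by
          obtain ⟨y, rfl⟩ := Ideal.Quotient.mk_surjective y
          refine Ideal.Quotient.eq_zero_iff_mem.2 (by_contra fun hyp => ?_)
          exact (residue_eq_zero_iff _).1 hy (IsLocalization.map_units Bp (⟨y, hyp⟩ : p.primeCompl)))
      refine (trdeg_eq_of_fractions fun z => ?_).symm
      obtain ⟨z, rfl⟩ := residue_surjective z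
      obtain ⟨⟨a, s⟩, hz⟩ := IsLocalization.surj p.primeCompl z
      refine ⟨Ideal.Quotient.mk p a, Ideal.Quotient.mk p s, fun h => s.2 (Ideal.Quotient.eq_zero_iff_mem.1 h), ?_⟩
      show residue Bp (algebraMap B Bp s) * residue Bp z = residue Bp (algebraMap B Bp a)
      rw [← map_mul, mul_comm, hz]
  obtain ⟨p₀, hp₀, -⟩ := Ideal.exists_minimalPrimes_le hI
  obtain ⟨d, e, hd, he, hsum⟩ := key p₀ hp₀
  refine ⟨d, e, le_antisymm ?_ ?_, he, hsum⟩
  · rw [ringKrullDim, Order.krullDim]
    refine iSup_le fun l => ?_
    have hle : I ≤ l.head.asIdeal.comap (Ideal.Quotient.mk I) := fun y hy => by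
      rw [Ideal.mem_comap, Ideal.Quotient.eq_zero_iff_mem.2 hy]; exact zero_mem _
    obtain ⟨p, hp, hpl⟩ := Ideal.exists_minimalPrimes_le hle
    obtain ⟨d', e', hd', he', hsum'⟩ := key p hp
    have hdd : d' = d := by
      have h2 : e' = e := by exact_mod_cast he'.symm.trans he
      have h3 : d' + e' = d + e := by exact_mod_cast hsum'.symm.trans hsum
      omega
    rw [← hdd, ← hd']
    let f : B ⧸ I →+* B ⧸ p := Ideal.Quotient.factor hp.1.2
    have hker : ∀ i, RingHom.ker f ≤ (l i).asIdeal := fun i y hy => by
      obtain ⟨y, rfl⟩ := Ideal.Quotient.mk_surjective y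
      rw [RingHom.mem_ker, Ideal.Quotient.factor_mk, Ideal.Quotient.eq_zero_iff_mem] at hy
      exact (show l.head.asIdeal ≤ (l i).asIdeal from LTSeries.head_le l i) (hpl hy)
    let l' : LTSeries (PrimeSpectrum (B ⧸ p)) :=
      { length := l.length
        toFun := fun i => ⟨(l i).asIdeal.map f,
          Ideal.map_isPrime_of_surjective (Ideal.Quotient.factor_surjective hp.1.2) (hker i)⟩
        step := fun i => by
          refine lt_of_le_of_ne (Ideal.map_mono (l.step i).le) fun h => (l.step i).ne (PrimeSpectrum.ext ?_)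
          have h' := congrArg (Ideal.comap f) (show ((l i.castSucc).asIdeal.map f) = (l i.succ).asIdeal.map f from h)
          simp only [Ideal.comap_map_of_surjective f (Ideal.Quotient.factor_surjective hp.1.2),
            ← RingHom.ker_eq_comap_bot, sup_eq_left.2 (hker _)] at h'
          exact h' }
    exact le_iSup (fun l : LTSeries (PrimeSpectrum (B ⧸ p)) => (l.length : WithBot ℕ∞)) l'
  · rw [← hd]
    exact ringKrullDim_le_of_surjective (Ideal.Quotient.factor hp₀.1.2) (Ideal.Quotient.factor_surjective hp₀.1.2)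

end GrothLib.DimForm6
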