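import Mathlib.RingTheory.AlgebraicIndependent.AlgebraicClosure
import Mathlib.RingTheory.AlgebraicIndependent.TranscendenceBasis
import Mathlib.RingTheory.IntegralClosure.GoingDown
import Mathlib.RingTheory.Polynomial.IsIntegral
import Mathlib.RingTheory.Ideal.GoingUp
import Mathlib.RingTheory.MvPolynomial.Homogeneous
import Mathlib.RingTheory.Localization.FractionRing
import Mathlib.RingTheory.ZariskisMainTheorem

/-!
# Divisibility by an independent element

If `x` is algebraically independent over a domain `A` in a domain `B` whose elements are fractions,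
with denominators outside a prime `M`, of elements integral over `A[x]`, and `x i₀ ∈ M`, then
`A → B ⧸ (x i₀)` is injective.
-/

set_option autoImplicit false
set_option linter.style.haveILetI false
set_option backward.isDefEq.respectTransparency false

universe u

open MvPolynomial

namespace GrothLib.DimForm6

theorem isIntegrallyClosed_mvPolynomial_fin (R : Type u) [CommRing R] [IsDomain R] [IsIntegrallyClosed R] :
    ∀ s : ℕ, IsIntegrallyClosed (MvPolynomial (Fin s) R)
  | 0 => .of_equiv (MvPolynomial.isEmptyRingEquiv R (Fin 0)).symm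
  | s + 1 =>
    haveI := isIntegrallyClosed_mvPolynomial_fin R s
    .of_equiv (MvPolynomial.finSuccEquiv R s).symm.toRingEquiv

theorem isIntegral_map_mvPolynomial {σ R S : Type u} [CommRing R] [CommRing S] (f : R →+* S) (hf : f.IsIntegral) :
    (MvPolynomial.map (σ := σ) f).IsIntegral := by
  intro p
  letI := (MvPolynomial.map (σ := σ) f).toAlgebra
  change _root_.IsIntegral (MvPolynomial σ R) p
  induction p using MvPolynomial.induction_on with
  | C c =>
    obtain ⟨P, hm, hP⟩ := hf c
    refine ⟨P.map (C : R →+* MvPolynomial σ R), hm.map _, ?_⟩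
    rw [Polynomial.eval₂_map]
    have h : (algebraMap (MvPolynomial σ R) (MvPolynomial σ S)).comp C = (C : S →+* _).comp f :=
      RingHom.ext fun r => MvPolynomial.map_C f r
    rw [h, ← Polynomial.hom_eval₂, hP, map_zero]
  | add p q hp hq => exact hp.add hq
  | mul_X p i hp =>
    refine hp.mul ?_
    have : (X i : MvPolynomial σ S) = algebraMap (MvPolynomial σ R) (MvPolynomial σ S) (X i) :=
      (MvPolynomial.map_X f i).symm
    rw [this]
    exact isIntegral_algebraMap

/-- The core: `A₁` normal and integral over `A` inside a field `L ⊇ B`. -/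
theorem eq_zero_of_mul_eq {σ A A₁ B L : Type u} [Finite σ] [CommRing A] [CommRing B] [IsDomain B]
    [Algebra A B] [Field L] [Algebra B L] [FaithfulSMul B L] [Algebra A L] [IsScalarTower A B L]
    [CommRing A₁] [IsDomain A₁] [IsIntegrallyClosed A₁] [Algebra A A₁] [Algebra A₁ L] [IsScalarTower A A₁ L]
    [Algebra.IsIntegral A A₁] (x : σ → B) (hx₁ : AlgebraicIndependent A₁ (algebraMap B L ∘ x)) (i₀ : σ)
    (M : Ideal B) [M.IsPrime] (hM : x i₀ ∈ M) (a : A) (b c s : B)
    (hc : (aeval (R := A) x).toRingHom.IsIntegralElem c) (hs : (aeval (R := A) x).toRingHom.IsIntegralElem s)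
    (hsM : s ∉ M) (hsb : s * b = c) (hb : b * x i₀ = algebraMap A B a) : algebraMap A A₁ a = 0 := by
  classical
  haveI : IsIntegrallyClosed (MvPolynomial σ A₁) := by
    obtain ⟨n, ⟨e⟩⟩ := Finite.exists_equiv_fin σ
    haveI := isIntegrallyClosed_mvPolynomial_fin A₁ n
    exact .of_equiv (MvPolynomial.renameEquiv A₁ e).symm.toRingEquiv
  letI : Algebra (MvPolynomial σ A₁) L := (aeval (R := A₁) (algebraMap B L ∘ x)).toRingHom.toAlgebra
  haveI : FaithfulSMul (MvPolynomial σ A₁) L := (faithfulSMul_iff_algebraMap_injective _ _).2 hx₁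
  let E₁ := integralClosure (MvPolynomial σ A₁) L
  haveI : Algebra.IsIntegral (MvPolynomial σ A₁) E₁ := IsIntegralClosure.isIntegral_algebra (MvPolynomial σ A₁) L
  haveI : FaithfulSMul (MvPolynomial σ A₁) E₁ := (faithfulSMul_iff_algebraMap_injective _ _).2
    fun p q h => (FaithfulSMul.algebraMap_injective (MvPolynomial σ A₁) L) (congrArg Subtype.val h)
  let μ : MvPolynomial σ A →+* (MvPolynomial σ A₁) := MvPolynomial.map (algebraMap A A₁)
  letI : Algebra (MvPolynomial σ A) B := (aeval (R := A) x).toRingHom.toAlgebra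
  have hμ : (algebraMap (MvPolynomial σ A₁) L).comp μ = (algebraMap B L).comp (algebraMap (MvPolynomial σ A) B) := by
    refine MvPolynomial.ringHom_ext (fun r => ?_) (fun i => ?_)
    · show aeval _ (MvPolynomial.map _ (C r)) = algebraMap B L (aeval x (C r))
      rw [MvPolynomial.map_C, aeval_C, aeval_C, ← IsScalarTower.algebraMap_apply, ← IsScalarTower.algebraMap_apply]
    · show aeval _ (MvPolynomial.map _ (X i)) = algebraMap B L (aeval x (X i))
      rw [MvPolynomial.map_X, aeval_X, aeval_X]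
      rfl
  let E := integralClosure (MvPolynomial σ A) B
  have hint : ∀ y : B, IsIntegral (MvPolynomial σ A) y → IsIntegral (MvPolynomial σ A₁) (algebraMap B L y) := by
    rintro y ⟨p, hm, hp⟩
    refine ⟨p.map μ, hm.map μ, ?_⟩
    rw [Polynomial.eval₂_map, hμ, ← Polynomial.hom_eval₂, hp, map_zero]
  let η : E →+* E₁ := ((algebraMap B L).comp E.val.toRingHom).codRestrict E₁ fun y => hint y y.2
  have hη : Function.Injective η := fun y z h =>
    Subtype.ext ((FaithfulSMul.algebraMap_injective B L) (congrArg Subtype.val h))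
  letI := η.toAlgebra
  haveI : Algebra.IsIntegral E E₁ := ⟨fun z => by
    have hcomp : η.comp (algebraMap (MvPolynomial σ A) E) = (algebraMap (MvPolynomial σ A₁) E₁).comp μ :=
      RingHom.ext fun r => Subtype.ext (DFunLike.congr_fun hμ r).symm
    have h : (η.comp (algebraMap (MvPolynomial σ A) E)).IsIntegralElem z := by
      rw [hcomp]
      exact RingHom.IsIntegral.trans μ (algebraMap (MvPolynomial σ A₁) E₁)
        (isIntegral_map_mvPolynomial _ (Algebra.IsIntegral.isIntegral (R := A) (A := A₁)))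
        (Algebra.IsIntegral.isIntegral (R := (MvPolynomial σ A₁)) (A := E₁)) z
    obtain ⟨p, hm, hp⟩ := h
    exact ⟨p.map (algebraMap (MvPolynomial σ A) E), hm.map _, by rw [Polynomial.eval₂_map]; exact hp⟩⟩
  obtain ⟨Q₁, -, hQ₁, hQ⟩ := Ideal.exists_ideal_over_prime_of_isIntegral (M.comap E.val.toRingHom) (⊥ : Ideal E₁)
    (by rw [← RingHom.ker_eq_comap_bot]; exact ((RingHom.injective_iff_ker_eq_bot η).1 hη).le.trans bot_le)
  let g₁ : E := ⟨x i₀, by
    have h : algebraMap (MvPolynomial σ A) B (X i₀) = x i₀ := aeval_X _ i₀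
    rw [← h]
    exact isIntegral_algebraMap⟩
  have hgQ : η g₁ ∈ Q₁ := by
    have : g₁ ∈ M.comap E.val.toRingHom := hM
    rw [← hQ] at this
    exact this
  have hgX : algebraMap (MvPolynomial σ A₁) E₁ (X i₀) = η g₁ := Subtype.ext (aeval_X _ i₀)
  let φ₀ : (MvPolynomial σ A₁) →ₐ[A₁] (MvPolynomial σ A₁) := aeval fun i => if i = i₀ then 0 else X i
  haveI : (RingHom.ker φ₀).IsPrime := RingHom.ker_isPrime φ₀
  have hker : RingHom.ker φ₀ ≤ Q₁.under (MvPolynomial σ A₁) := by
    intro f hf
    have hspan : Ideal.span {(X i₀ : (MvPolynomial σ A₁))} ≤ Q₁.under (MvPolynomial σ A₁) := by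
      rw [Ideal.span_singleton_le_iff_mem, Ideal.under, Ideal.mem_comap, hgX]
      exact hgQ
    have h : (Ideal.Quotient.mkₐ A₁ (Ideal.span {(X i₀ : (MvPolynomial σ A₁))})).comp φ₀ =
        Ideal.Quotient.mkₐ A₁ (Ideal.span {(X i₀ : (MvPolynomial σ A₁))}) := by
      refine MvPolynomial.algHom_ext fun i => ?_
      simp only [φ₀, AlgHom.comp_apply, aeval_X]
      split_ifs with hi
      · subst hi
        rw [map_zero]
        exact (Ideal.Quotient.eq_zero_iff_mem.2 (Ideal.mem_span_singleton_self _)).symm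
      · rfl
    have h2 := DFunLike.congr_fun h f
    rw [AlgHom.comp_apply, RingHom.mem_ker.1 hf, map_zero] at h2
    exact hspan (Ideal.Quotient.eq_zero_iff_mem.1 h2.symm)
  haveI : Q₁.IsPrime := hQ₁
  obtain ⟨𝔭, h𝔭Q, h𝔭, h𝔭l⟩ := Ideal.exists_ideal_le_liesOver_of_le Q₁ hker
  have hgp : η g₁ ∈ 𝔭 := by
    rw [← hgX]
    show X i₀ ∈ 𝔭.under (MvPolynomial σ A₁)
    rw [← h𝔭l.over, RingHom.mem_ker]
    simp [φ₀]
  let c₁ : E := ⟨c, hc⟩
  let s₁ : E := ⟨s, hs⟩
  let a₁ : (MvPolynomial σ A₁) := C (algebraMap A A₁ a)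
  have heq : algebraMap (MvPolynomial σ A₁) E₁ a₁ * η s₁ = η g₁ * η c₁ := by
    refine Subtype.ext ?_
    show aeval _ (C _) * algebraMap B L s = algebraMap B L (x i₀) * algebraMap B L c
    rw [aeval_C, ← IsScalarTower.algebraMap_apply, IsScalarTower.algebraMap_apply A B L, ← map_mul, ← map_mul,
      ← hb, ← hsb]
    congr 1
    ring
  have hs₁ : η s₁ ∉ 𝔭 := fun h => hsM (by
    have h2 : s₁ ∈ Q₁.comap η := h𝔭Q h
    rw [show Q₁.comap η = M.comap E.val.toRingHom from hQ] at h2
    exact h2)
  have ha₁ : algebraMap (MvPolynomial σ A₁) E₁ a₁ ∈ 𝔭 :=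
    (h𝔭.mem_or_mem (heq ▸ Ideal.mul_mem_right _ 𝔭 hgp)).resolve_right hs₁
  have ha₂ : a₁ ∈ RingHom.ker φ₀ := by rw [h𝔭l.over]; exact ha₁
  rw [RingHom.mem_ker, aeval_C, MvPolynomial.algebraMap_eq, map_eq_zero_iff _ (C_injective σ A₁)] at ha₂
  exact ha₂

/-- `A → B ⧸ (x i₀)` is injective. -/
theorem injective_quotient_of_algebraicIndependent {σ A B : Type u} [Finite σ] [CommRing A] [IsDomain A]
    [CommRing B] [IsDomain B] [Algebra A B] (x : σ → B) (hx : AlgebraicIndependent A x) (i₀ : σ)
    (M : Ideal B) [M.IsPrime] (hM : x i₀ ∈ M)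
    (hloc : ∀ b : B, ∃ c s : B, (aeval (R := A) x).toRingHom.IsIntegralElem c ∧
      (aeval (R := A) x).toRingHom.IsIntegralElem s ∧ s ∉ M ∧ s * b = c) :
    Function.Injective (algebraMap A (B ⧸ Ideal.span {x i₀})) := by
  rw [injective_iff_map_eq_zero]
  intro a ha
  rw [← Ideal.Quotient.mk_algebraMap, Ideal.Quotient.eq_zero_iff_mem, Ideal.mem_span_singleton'] at ha
  obtain ⟨b, hb⟩ := ha
  obtain ⟨c, s, hc, hs, hsM, hsb⟩ := hloc b
  have hinj : Function.Injective (IsScalarTower.toAlgHom A B (FractionRing B)) :=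
    IsFractionRing.injective B (FractionRing B)
  haveI : Algebra.IsIntegral A (integralClosure A (FractionRing B)) :=
    IsIntegralClosure.isIntegral_algebra A (FractionRing B)
  haveI : IsIntegrallyClosed (integralClosure A (FractionRing B)) :=
    IsIntegrallyClosed.of_isIntegrallyClosedIn _ (FractionRing B)
  have h3 := eq_zero_of_mul_eq (L := FractionRing B) x (A₁ := integralClosure A (FractionRing B))
    ((hx.map' hinj).extendScalars_of_isIntegral (integralClosure A (FractionRing B))) i₀ M hM a b c s hc hs hsM hsb hb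
  have h4 : algebraMap A (FractionRing B) a = 0 := congrArg Subtype.val h3
  rw [IsScalarTower.algebraMap_apply A B (FractionRing B),
    map_eq_zero_iff _ (IsFractionRing.injective B (FractionRing B))] at h4
  exact hx.algebraMap_injective (h4.trans (map_zero _).symm)

end GrothLib.DimForm6
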