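import Groth.Agent.Lib.DimForm6.Zmt
import Mathlib.RingTheory.AlgebraicIndependent.TranscendenceBasis
import Mathlib.RingTheory.LocalRing.ResidueField.Basic

/-!
# Local rings cut out by parameters
-/

set_option autoImplicit false
set_option linter.style.haveILetI false
set_option backward.isDefEq.respectTransparency false

universe u

open IsLocalRing MvPolynomial

namespace GrothLib.DimForm6

/-- If `x` cuts out the closed point of the closed fibre and generates the residue field up to algebraic
elements, then `B` consists of fractions of elements integral over `A[x]`, in particular is algebraic over it. -/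
theorem fractions_of_parameters {A B σ : Type u} [CommRing A] [CommRing B] [IsDomain B] [IsLocalRing A]
    [IsLocalRing B] [Algebra A B] [IsLocalHom (algebraMap A B)] [Algebra.EssFiniteType A B] [Finite σ] (x : σ → B)
    (hs : ∀ q : Ideal B, q.IsPrime → Ideal.map (algebraMap A B) (maximalIdeal A) ≤ q →
      (∀ o, x o ∈ maximalIdeal B → x o ∈ q) → q = maximalIdeal B)
    (halg : Algebra.IsAlgebraic (Algebra.adjoin (ResidueField A) (Set.range fun o => residue B (x o))) (ResidueField B)) :
    (∀ b : B, ∃ c s' : B, (aeval (R := A) x).toRingHom.IsIntegralElem c ∧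
      (aeval (R := A) x).toRingHom.IsIntegralElem s' ∧ s' ∉ maximalIdeal B ∧ s' * b = c) ∧
    Algebra.IsAlgebraic (Algebra.adjoin A (Set.range x)) B := by
  classical
  letI : Algebra (MvPolynomial (σ) A) B := (aeval (R := A) x).toRingHom.toAlgebra
  haveI : IsScalarTower A (MvPolynomial (σ) A) B :=
    IsScalarTower.of_algebraMap_eq fun a => ((aeval (R := A) x).commutes a).symm
  have hX : ∀ o, algebraMap (MvPolynomial (σ) A) B (X o) = x o := fun o => aeval_X x o
  let n : Ideal (MvPolynomial (σ) A) := (maximalIdeal B).under _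
  let J : Ideal B := n.map (algebraMap (MvPolynomial (σ) A) B)
  have hJ : J ≤ maximalIdeal B := Ideal.map_comap_le
  have hIJ : Ideal.map (algebraMap A B) (maximalIdeal A) ≤ J := Ideal.map_le_iff_le_comap.2 fun a ha => by
    rw [Ideal.mem_comap, IsScalarTower.algebraMap_apply A (MvPolynomial (σ) A) B]
    refine Ideal.mem_map_of_mem _ ?_
    show algebraMap _ B _ ∈ maximalIdeal B
    rw [← IsScalarTower.algebraMap_apply]
    exact (map_mem_nonunits_iff (algebraMap A B) a).2 ha
  have hxJ : ∀ o, x o ∈ maximalIdeal B → x o ∈ J := fun o ho => by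
    rw [← hX o]
    refine Ideal.mem_map_of_mem _ ?_
    show algebraMap _ B _ ∈ maximalIdeal B
    rwa [hX o]
  haveI : Nontrivial (B ⧸ J) := Ideal.Quotient.nontrivial_iff.2 fun h => (maximalIdeal.isMaximal B).ne_top
    (top_le_iff.1 (h ▸ hJ))
  haveI : IsLocalRing (B ⧸ J) := IsLocalRing.of_surjective' (Ideal.Quotient.mk J) Ideal.Quotient.mk_surjective
  haveI : IsLocalHom (Ideal.Quotient.mk J) := IsLocalHom.of_surjective _ Ideal.Quotient.mk_surjective
  haveI : IsArtinianRing (B ⧸ J) := by
    rw [isArtinianRing_iff_isNoetherianRing_krullDimLE_zero]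
    constructor
    · letI : Algebra (ResidueField A) (B ⧸ Ideal.map (algebraMap A B) (maximalIdeal A)) :=
        (Ideal.quotientMap _ (algebraMap A B) Ideal.le_comap_map).toAlgebra
      haveI : IsScalarTower A (ResidueField A) (B ⧸ Ideal.map (algebraMap A B) (maximalIdeal A)) :=
        IsScalarTower.of_algebraMap_eq fun a => rfl
      haveI : Algebra.EssFiniteType (ResidueField A) (B ⧸ Ideal.map (algebraMap A B) (maximalIdeal A)) :=
        Algebra.EssFiniteType.of_comp A (ResidueField A) _
      haveI := Algebra.EssFiniteType.isNoetherianRing (ResidueField A)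
        (B ⧸ Ideal.map (algebraMap A B) (maximalIdeal A))
      exact isNoetherianRing_of_surjective _ _ (Ideal.Quotient.factor hIJ) (Ideal.Quotient.factor_surjective hIJ)
    · refine Ring.krullDimLE_zero_iff.2 fun q hq => ?_
      haveI := hq
      have h1 : J ≤ q.comap (Ideal.Quotient.mk J) := fun y hy => by
        rw [Ideal.mem_comap, Ideal.Quotient.eq_zero_iff_mem.2 hy]; exact zero_mem q
      have h2 := hs (q.comap (Ideal.Quotient.mk J)) inferInstance (hIJ.trans h1) (fun o ho => h1 (hxJ o ho))
      have h3 := congrArg (Ideal.map (Ideal.Quotient.mk J)) h2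
      rw [Ideal.map_comap_of_surjective _ Ideal.Quotient.mk_surjective] at h3
      exact (Ideal.map_eq_top_or_isMaximal_of_surjective _ Ideal.Quotient.mk_surjective
        (maximalIdeal.isMaximal B)).resolve_left (h3 ▸ hq.ne_top) |> (h3 ▸ ·)
  have hqf : Algebra.QuasiFinite (MvPolynomial (σ) A) (B ⧸ J) := by
    have hn : (maximalIdeal (B ⧸ J)).under (MvPolynomial (σ) A) = n := by
      ext p
      show algebraMap _ (B ⧸ J) p ∈ maximalIdeal (B ⧸ J) ↔ algebraMap _ B p ∈ maximalIdeal B
      rw [← Ideal.Quotient.mk_algebraMap]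
      exact map_mem_nonunits_iff (Ideal.Quotient.mk J) _
    refine quasiFinite_of_isArtinianRing (A := A) (fun z => ?_) (by
      rw [hn, IsScalarTower.algebraMap_eq (MvPolynomial (σ) A) B (B ⧸ J), ← Ideal.map_map,
        Ideal.Quotient.algebraMap_eq]
      exact Ideal.map_quotient_self J)
    let ρ : ResidueField B →+* (B ⧸ J) ⧸ maximalIdeal (B ⧸ J) :=
      ResidueField.map (Ideal.Quotient.mk J)
    have hρ : ∀ b, ρ (residue B b) = algebraMap B ((B ⧸ J) ⧸ maximalIdeal (B ⧸ J)) b := fun b => rfl
    let F : Subalgebra (ResidueField A) (ResidueField B) :=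
      Algebra.adjoin (ResidueField A) (Set.range fun o => residue B (x o))
    have hF : ∀ y ∈ F, ∃ p : MvPolynomial (σ) A, residue B (algebraMap _ B p) = y := fun y hy => by
      induction hy using Algebra.adjoin_induction with
      | mem y hy =>
        obtain ⟨i, rfl⟩ := hy
        exact ⟨X i, by rw [hX]⟩
      | algebraMap r =>
        obtain ⟨a, rfl⟩ := residue_surjective r
        exact ⟨C a, by rw [← MvPolynomial.algebraMap_eq, ← IsScalarTower.algebraMap_apply]; rfl⟩
      | add y z _ _ h1 h2 =>
        obtain ⟨p, hp⟩ := h1; obtain ⟨q, hq⟩ := h2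
        exact ⟨p + q, by rw [map_add, map_add, hp, hq]⟩
      | mul y z _ _ h1 h2 =>
        obtain ⟨p, hp⟩ := h1; obtain ⟨q, hq⟩ := h2
        exact ⟨p * q, by rw [map_mul, map_mul, hp, hq]⟩
    obtain ⟨z, rfl⟩ := Ideal.Quotient.mk_surjective z
    obtain ⟨b, rfl⟩ := Ideal.Quotient.mk_surjective z
    haveI : Algebra.IsAlgebraic F (ResidueField B) := halg
    obtain ⟨P₀, hP₀, hP₀b⟩ := Algebra.IsAlgebraic.isAlgebraic (R := F) (residue B b)
    let ψ : F → MvPolynomial (σ) A := fun c =>
      if c = 0 then 0 else (hF c c.2).choose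
    have hψ : ∀ c, residue B (algebraMap _ B (ψ c)) = c := fun c => by
      by_cases hc : c = 0
      · simp [ψ, hc]
      · simp only [ψ, if_neg hc]; exact (hF c c.2).choose_spec
    refine ⟨∑ i ∈ P₀.support, Polynomial.monomial i (ψ (P₀.coeff i)), ?_, ?_⟩
    · obtain ⟨i, hi⟩ := Polynomial.support_nonempty.2 hP₀
      refine ⟨i, fun hmem => Polynomial.mem_support_iff.1 hi ?_⟩
      rw [hn, Polynomial.finsetSum_coeff, Finset.sum_eq_single i (fun j _ hj => Polynomial.coeff_monomial_of_ne _ hj.symm)
        (fun h => absurd hi h), Polynomial.coeff_monomial_same] at hmem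
      refine Subtype.ext ?_
      rw [← hψ (P₀.coeff i)]
      exact (residue_eq_zero_iff _).2 hmem
    · have h1 : ρ (Polynomial.aeval (residue B b) P₀) = 0 := by rw [hP₀b, map_zero]
      rw [Polynomial.aeval_def, Polynomial.eval₂_eq_sum, Polynomial.sum, map_sum] at h1
      rw [map_sum]
      refine Eq.trans (Finset.sum_congr rfl fun i _ => ?_) h1
      rw [Polynomial.aeval_monomial, map_mul, map_pow, hρ]
      congr 1
      rw [show algebraMap F (ResidueField B) (P₀.coeff i) = residue B (algebraMap _ B (ψ (P₀.coeff i))) from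
        (hψ (P₀.coeff i)).symm, hρ]
      rfl
  have hloc : ∀ b : B, ∃ c s' : B, (aeval (R := A) x).toRingHom.IsIntegralElem c ∧
      (aeval (R := A) x).toRingHom.IsIntegralElem s' ∧ s' ∉ maximalIdeal B ∧ s' * b = c :=
    exists_isIntegral_mul_eq (A := A) hqf
  haveI : Algebra.IsAlgebraic (Algebra.adjoin A (Set.range x)) B := ⟨fun b => by
    obtain ⟨c, s', hc, hs', hsM', hb⟩ := hloc b
    have h : ∀ y, (aeval (R := A) x).toRingHom.IsIntegralElem y → IsIntegral (Algebra.adjoin A (Set.range x)) y := by
      rintro y ⟨p, hm, hp⟩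
      let φ : MvPolynomial (σ) A →+* Algebra.adjoin A (Set.range x) :=
        (aeval (R := A) x).toRingHom.codRestrict _ fun p => by
          rw [Algebra.adjoin_range_eq_range_aeval]; exact ⟨p, rfl⟩
      exact ⟨p.map φ, hm.map φ, by rw [Polynomial.eval₂_map]; exact hp⟩
    have hs0 : s' ≠ 0 := fun h0 => hsM' (h0 ▸ zero_mem _)
    exact IsAlgebraic.of_mul (mem_nonZeroDivisors_of_ne_zero hs0) (h s' hs').isAlgebraic
      (hb ▸ (h c hc).isAlgebraic)⟩
  exact ⟨hloc, inferInstance⟩

end GrothLib.DimForm6
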