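import Groth.Agent.Lib.DimForm6.GoingDown
import Groth.Agent.Lib.DimForm6.Params
import Mathlib.RingTheory.Ideal.KrullsHeightTheorem
import Mathlib.RingTheory.KrullDimension.NonZeroDivisors
import Mathlib.RingTheory.Ideal.MinimalPrime.Localization
import Mathlib.RingTheory.LocalRing.ResidueField.Basic

/-!
# Horizontal elements
-/

set_option autoImplicit false
set_option linter.style.haveILetI false
set_option backward.isDefEq.respectTransparency false

universe u

open IsLocalRing MvPolynomial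

namespace GrothLib.DimForm6

/-- An element outside the minimal primes cuts the dimension by one. -/
theorem ringKrullDim_quotient_succ_le {R : Type u} [CommRing R] (r : R) (hr : ∀ p ∈ minimalPrimes R, r ∉ p) :
    ringKrullDim (R ⧸ Ideal.span {r}) + 1 ≤ ringKrullDim R := by
  by_cases hr' : Ideal.span {r} = ⊤
  · rw [hr', ringKrullDim_eq_bot_of_subsingleton]
    simp
  have : Nonempty (PrimeSpectrum.zeroLocus (R := R) (Ideal.span {r})) := by
    rwa [Set.nonempty_coe_sort, Set.nonempty_iff_ne_empty, ne_eq,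
      PrimeSpectrum.zeroLocus_empty_iff_eq_top]
  have := Ideal.Quotient.nontrivial_iff.mpr hr'
  have := (Ideal.Quotient.mk (Ideal.span {r})).domain_nontrivial
  rw [ringKrullDim_quotient, Order.krullDim_eq_iSup_length, ringKrullDim,
    Order.krullDim_eq_iSup_length, ← WithBot.coe_one, ← WithBot.coe_add,
    ENat.iSup_add, WithBot.coe_le_coe, iSup_le_iff]
  intro l
  obtain ⟨p, hp, hp'⟩ := Ideal.exists_minimalPrimes_le (J := l.head.1.asIdeal) bot_le
  let p' : PrimeSpectrum R := ⟨p, hp.1.1⟩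
  have hp' : p' < l.head := lt_of_le_of_ne hp' fun h ↦ hr p hp (by simpa [← h] using l.head.2)
  refine le_trans ?_ (le_iSup _ ((l.map Subtype.val (fun _ _ ↦ id)).cons p' hp'))
  simp

variable {A B : Type u} [CommRing A] [CommRing B] [IsLocalRing A] [IsLocalRing B]
    [Algebra A B] [IsLocalHom (algebraMap A B)] [Algebra.EssFiniteType A B]

/-- `d` elements cutting out the closed point of the closed fibre, the first being `g`. -/
theorem exists_parameters (g : B) (hg : g ∈ maximalIdeal B)
    (hmin : ∀ q ∈ (Ideal.map (algebraMap A B) (maximalIdeal A)).minimalPrimes, g ∉ q)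
    (d : ℕ) (hd : ringKrullDim (B ⧸ Ideal.map (algebraMap A B) (maximalIdeal A)) = d) :
    ∃ s : Finset B, s.card + 1 ≤ d ∧ (s : Set B) ⊆ maximalIdeal B ∧
      ∀ q : Ideal B, q.IsPrime → Ideal.map (algebraMap A B) (maximalIdeal A) ≤ q → g ∈ q → (s : Set B) ⊆ q →
        q = maximalIdeal B := by
  classical
  let I := Ideal.map (algebraMap A B) (maximalIdeal A)
  have hI : I ≤ maximalIdeal B := Ideal.map_le_iff_le_comap.2 fun a ha => (map_mem_nonunits_iff (algebraMap A B) a).2 ha
  letI : Algebra (ResidueField A) (B ⧸ I) :=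
    (Ideal.quotientMap I (algebraMap A B) Ideal.le_comap_map).toAlgebra
  haveI : IsScalarTower A (ResidueField A) (B ⧸ I) := IsScalarTower.of_algebraMap_eq fun a => rfl
  haveI : Algebra.EssFiniteType (ResidueField A) (B ⧸ I) :=
    Algebra.EssFiniteType.of_comp A (ResidueField A) (B ⧸ I)
  haveI : IsNoetherianRing (B ⧸ I) := Algebra.EssFiniteType.isNoetherianRing (ResidueField A) (B ⧸ I)
  let g₀ : B ⧸ I := Ideal.Quotient.mk I g
  have hdim : ringKrullDim ((B ⧸ I) ⧸ Ideal.span {g₀}) + 1 ≤ ringKrullDim (B ⧸ I) := by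
    refine ringKrullDim_quotient_succ_le g₀ fun p hp => hmin (p.comap (Ideal.Quotient.mk I)) ?_
    rw [Ideal.minimalPrimes_eq_comap]
    exact ⟨p, hp, rfl⟩
  let π : B →+* (B ⧸ I) ⧸ Ideal.span {g₀} := (Ideal.Quotient.mk _).comp (Ideal.Quotient.mk I)
  have hπ : Function.Surjective π := Ideal.Quotient.mk_surjective.comp Ideal.Quotient.mk_surjective
  have hkg : ∀ {q : Ideal B}, I ≤ q → g ∈ q → RingHom.ker π ≤ q := fun {q} h1 h2 y hy => by
    rw [RingHom.mem_ker, RingHom.comp_apply, Ideal.Quotient.eq_zero_iff_mem, Ideal.mem_span_singleton'] at hy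
    obtain ⟨c, hc⟩ := hy
    obtain ⟨c, rfl⟩ := Ideal.Quotient.mk_surjective c
    rw [← map_mul, Ideal.Quotient.eq] at hc
    exact (Submodule.sub_mem_iff_right q (q.mul_mem_left c h2)).1 (h1 hc)
  have hker : RingHom.ker π ≤ maximalIdeal B := hkg hI hg
  haveI : Nontrivial ((B ⧸ I) ⧸ Ideal.span {g₀}) := ⟨⟨π 1, 0, fun h =>
    (maximalIdeal.isMaximal B).ne_top ((Ideal.eq_top_iff_one _).2 (hker (RingHom.mem_ker.2 h)))⟩⟩
  haveI : IsLocalRing ((B ⧸ I) ⧸ Ideal.span {g₀}) := IsLocalRing.of_surjective' π hπ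
  obtain ⟨t, ht, htcard⟩ := Ideal.exists_finset_card_eq_height_of_isNoetherianRing
    (maximalIdeal ((B ⧸ I) ⧸ Ideal.span {g₀}))
  rw [← IsLocalRing.maximalIdeal_height_eq_ringKrullDim, ← htcard, hd] at hdim
  haveI : IsLocalHom π := IsLocalHom.of_surjective π hπ
  refine ⟨t.image (Function.surjInv hπ), le_trans (Nat.add_le_add_right Finset.card_image_le 1) (mod_cast hdim),
    ?_, fun q hq h1 h2 h3 => ?_⟩
  · rw [Finset.coe_image]
    rintro _ ⟨y, hy, rfl⟩ hu
    have h := hu.map π
    rw [Function.surjInv_eq hπ] at h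
    exact ht.1.2 (Ideal.subset_span hy) h
  · have hq' : (q.map π).IsPrime := Ideal.map_isPrime_of_surjective hπ (hkg h1 h2)
    have hle : Ideal.span (t : Set ((B ⧸ I) ⧸ Ideal.span {g₀})) ≤ q.map π := Ideal.span_le.2 fun y hy => by
      rw [← Function.surjInv_eq hπ y]
      exact Ideal.mem_map_of_mem π (h3 (Finset.mem_image_of_mem _ hy))
    refine le_antisymm (le_maximalIdeal hq.ne_top) fun y hy => ?_
    have h4 : π y ∈ q.map π :=
      (ht.2 ⟨hq', hle⟩ (le_maximalIdeal hq'.ne_top)) ((map_mem_nonunits_iff π y).2 hy)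
    obtain ⟨z, hz, hzy⟩ := (Ideal.mem_map_iff_of_surjective π hπ).1 h4
    have h5 : y - z ∈ q := hkg h1 h2 (by rw [RingHom.mem_ker, map_sub, hzy, sub_self])
    simpa using add_mem h5 hz

variable [IsDomain A] [IsDomain B] [FaithfulSMul A B]

theorem injective_of_horizontal_le (g : B) (hg : g ∈ maximalIdeal B)
    (hmin : ∀ q ∈ (Ideal.map (algebraMap A B) (maximalIdeal A)).minimalPrimes, g ∉ q)
    (d e : ℕ) (hd : ringKrullDim (B ⧸ Ideal.map (algebraMap A B) (maximalIdeal A)) = d)
    (he : Algebra.trdeg (ResidueField A) (ResidueField B) = e) (hle : ((d + e : ℕ) : Cardinal.{u}) ≤ Algebra.trdeg A B) :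
    Function.Injective (algebraMap A (B ⧸ Ideal.span {g})) := by
  classical
  obtain ⟨s, hscard, hsM, hs⟩ := exists_parameters g hg hmin d hd
  obtain ⟨ι, t, ht⟩ := exists_isTranscendenceBasis' (ResidueField A) (ResidueField B)
  have hι : Cardinal.mk ι = e := ht.cardinalMk_eq_trdeg.trans he
  haveI : Finite ι := Cardinal.mk_lt_aleph0_iff.1 (hι ▸ Cardinal.natCast_lt_aleph0)
  haveI : Fintype ι := Fintype.ofFinite ι
  choose τ hτ using residue_surjective (R := B)
  let x : Option (↥s ⊕ ι) → B := fun o => o.elim g (Sum.elim Subtype.val (fun i => τ (t i)))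
  haveI : Algebra.IsAlgebraic (Algebra.adjoin (ResidueField A) (Set.range t)) (ResidueField B) := ht.isAlgebraic
  obtain ⟨hloc, halg⟩ := fractions_of_parameters (A := A) x
    (fun q hq h1 h2 => hs q hq h1 (h2 none hg) (fun y hy => h2 (some (.inl ⟨y, hy⟩)) (hsM hy)))
    ⟨fun y => (Algebra.IsAlgebraic.isAlgebraic (R := Algebra.adjoin (ResidueField A) (Set.range t)) y).adjoin_of_forall_isAlgebraic
      fun z hz => absurd (Set.mem_range.2 ⟨some (.inr (Set.mem_range.1 hz.1).choose), by
        simp [x, hτ, (Set.mem_range.1 hz.1).choose_spec]⟩) hz.2⟩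
  have hcard : Cardinal.mk (Option (↥s ⊕ ι)) ≤ Algebra.trdeg A B := by
    refine le_trans ?_ hle
    rw [Cardinal.mk_option, Cardinal.mk_sum, hι, Cardinal.mk_coe_finset]
    simp only [Cardinal.lift_natCast]
    exact_mod_cast (show s.card + e + 1 ≤ d + e by omega)
  have htb := Algebra.IsAlgebraic.isTranscendenceBasis_of_le_trdeg_of_finite A x hcard
  exact injective_quotient_of_algebraicIndependent x htb.1 none (maximalIdeal B) hg hloc

theorem injective_of_horizontal (g : B) (hg : g ∈ maximalIdeal B)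
    (hmin : ∀ q ∈ (Ideal.map (algebraMap A B) (maximalIdeal A)).minimalPrimes, g ∉ q)
    (d e : ℕ) (hd : ringKrullDim (B ⧸ Ideal.map (algebraMap A B) (maximalIdeal A)) = d)
    (he : Algebra.trdeg (ResidueField A) (ResidueField B) = e) (hsum : Algebra.trdeg A B = (d + e : ℕ)) :
    Function.Injective (algebraMap A (B ⧸ Ideal.span {g})) :=
  injective_of_horizontal_le g hg hmin d e hd he hsum.ge

end GrothLib.DimForm6
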