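import Groth.Agent.Lib.DimForm6.Zmt
import Mathlib.RingTheory.Ideal.KrullsHeightTheorem
import Mathlib.RingTheory.LocalRing.ResidueField.Basic

/-!
# Quasi-finite quotients of dimension one
-/

set_option autoImplicit false
set_option linter.style.haveILetI false
set_option backward.isDefEq.respectTransparency false

universe u

open IsLocalRing

namespace GrothLib.DimForm6

/-- A local ring essentially of finite type, quasi-finite at the closed point, is quasi-finite. -/
theorem quasiFinite_of_closed_fibre {A B : Type u} [CommRing A] [CommRing B] [IsLocalRing B] [Algebra A B]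
    [Algebra.EssFiniteType A B]
    (hqf : Algebra.QuasiFinite A (B ⧸ ((maximalIdeal B).under A).map (algebraMap A B))) :
    Algebra.QuasiFinite A B := by
  let C := Algebra.EssFiniteType.subalgebra A B
  let q : Ideal C := (maximalIdeal B).comap C.val.toRingHom
  haveI : IsLocalization.AtPrime B q :=
    { map_units := fun s => not_not.1 fun h => s.2 h
      surj := fun y => by
        obtain ⟨⟨z, w⟩, hzw⟩ := IsLocalization.surj (Algebra.EssFiniteType.submonoid A B) y
        exact ⟨⟨z, ⟨w.1, fun h => h w.2⟩⟩, hzw⟩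
      exists_of_eq := fun h => ⟨1, by rw [Subtype.ext h]⟩ }
  let e : Localization.AtPrime q ≃ₐ[A] B := (IsLocalization.algEquiv q.primeCompl _ B).restrictScalars A
  haveI : Algebra.WeaklyQuasiFiniteAt A q := by
    rw [Algebra.weaklyQuasiFiniteAt_iff]
    refine (Algebra.QuasiFinite.iff_of_algEquiv (Ideal.quotientEquivAlg _ _ e ?_)).2 hqf
    have hcomp : (e : Localization.AtPrime q →+* B).comp (algebraMap A (Localization.AtPrime q)) = algebraMap A B :=
      RingHom.ext fun p => e.commutes p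
    rw [Ideal.map_map]
    exact (congrArg (fun g => Ideal.map g ((maximalIdeal B).under A)) hcomp).symm
  exact (Algebra.QuasiFinite.iff_of_algEquiv e).1 (Algebra.QuasiFiniteAt.of_weaklyQuasiFiniteAt q)

/-- An open set of the punctured spectrum contains a point of coheight one. -/
theorem exists_coheight_one {B : Type u} [CommRing B] [IsLocalRing B] [IsNoetherianRing B] (f : B)
    (hf : f ∈ maximalIdeal B) (hnil : ¬ IsNilpotent f) :
    ∃ q : Ideal B, q.IsPrime ∧ f ∉ q ∧ ∀ r : Ideal B, r.IsPrime → q < r → r = maximalIdeal B := by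
  classical
  obtain ⟨q, ⟨hq, hfq⟩, hmax⟩ := set_has_maximal_iff_noetherian.2 (inferInstance : IsNoetherianRing B)
    {p : Ideal B | p.IsPrime ∧ f ∉ p} (by
      rw [← mem_nilradical, nilradical_eq_sInf, Submodule.mem_sInf] at hnil
      push_neg at hnil
      obtain ⟨p, hp, hfp⟩ := hnil
      exact ⟨p, hp, hfp⟩)
  refine ⟨q, hq, hfq, fun r hr hqr => ?_⟩
  by_contra hne
  haveI := hq
  haveI := hr
  have hrm : r < maximalIdeal B := lt_of_le_of_ne (le_maximalIdeal hr.ne_top) hne
  let π := Ideal.Quotient.mk q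
  haveI : IsLocalRing (B ⧸ q) := IsLocalRing.of_surjective' π Ideal.Quotient.mk_surjective
  haveI : IsLocalHom π := IsLocalHom.of_surjective π Ideal.Quotient.mk_surjective
  have hf0 : π f ≠ 0 := fun h => hfq (Ideal.Quotient.eq_zero_iff_mem.1 h)
  let r' : Ideal (B ⧸ q) := r.map π
  haveI : r'.IsPrime := Ideal.isPrime_map_quotientMk_of_isPrime hqr.le
  have hcr : r'.comap π = r := by
    rw [Ideal.comap_map_of_surjective _ Ideal.Quotient.mk_surjective, ← RingHom.ker_eq_comap_bot, Ideal.mk_ker,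
      sup_eq_left.2 hqr.le]
  have hbot : (⊥ : Ideal (B ⧸ q)) < r' := bot_lt_iff_ne_bot.2 fun h => hqr.ne (by
    rw [← hcr, h, ← RingHom.ker_eq_comap_bot, Ideal.mk_ker])
  have hr'm : r' < maximalIdeal (B ⧸ q) := lt_of_le_of_ne (le_maximalIdeal Ideal.IsPrime.ne_top') fun h => hrm.ne (by
    rw [← hcr, h]
    exact (eq_maximalIdeal (Ideal.comap_isMaximal_of_surjective π Ideal.Quotient.mk_surjective)))
  obtain ⟨x, hxm, hx⟩ : ∃ x ∈ maximalIdeal (B ⧸ q), ∀ P ∈ (Ideal.span {π f}).minimalPrimes, x ∉ P := by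
    by_contra hc
    push Not at hc
    have hfin := Ideal.finite_minimalPrimes_of_isNoetherianRing (R := B ⧸ q) (Ideal.span {π f})
    have hsub : (maximalIdeal (B ⧸ q) : Set (B ⧸ q)) ⊆
        ⋃ P ∈ (↑hfin.toFinset : Set (Ideal (B ⧸ q))), (id P : Ideal (B ⧸ q)) := by
      intro y hy
      obtain ⟨P, hP, hyP⟩ := hc y hy
      exact Set.mem_biUnion (hfin.mem_toFinset.2 hP) hyP
    obtain ⟨P, hP, hle⟩ := (Ideal.subset_union_prime ⊥ ⊥ fun P hP _ _ => (hfin.mem_toFinset.1 hP).1.1).mp hsub
    have hP' := hfin.mem_toFinset.1 hP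
    haveI := hP'.1.1
    have h1 : P.height ≤ 1 := Ideal.height_le_one_of_isPrincipal_of_mem_minimalPrimes (Ideal.span {π f}) P hP'
    have hPm : P = maximalIdeal (B ⧸ q) := le_antisymm (le_maximalIdeal hP'.1.1.ne_top) hle
    subst hPm
    have h2 : (⊥ : Ideal (B ⧸ q)).height < r'.height := Ideal.height_strict_mono_of_isPrime hbot
    have h3 : r'.height < (maximalIdeal (B ⧸ q)).height := Ideal.height_strict_mono_of_isPrime hr'm
    have h4 := Order.add_one_le_of_lt h2
    have h5 : r'.height < 1 := h3.trans_le h1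
    exact absurd (le_trans le_add_self h4) (not_le.2 h5)
  obtain ⟨P, hP⟩ := Ideal.nonempty_minimalPrimes (I := Ideal.span {x}) fun h =>
    (maximalIdeal.isMaximal (B ⧸ q)).ne_top (top_le_iff.1 (h ▸ (Ideal.span_singleton_le_iff_mem _).2 hxm))
  haveI := hP.1.1
  have hxP : x ∈ P := hP.1.2 (Ideal.mem_span_singleton_self x)
  have hP1 : P.height ≤ 1 := Ideal.height_le_one_of_isPrincipal_of_mem_minimalPrimes (Ideal.span {x}) P hP
  obtain ⟨P₀, hP₀⟩ := Ideal.nonempty_minimalPrimes (I := Ideal.span {π f}) fun h =>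
    (maximalIdeal.isMaximal (B ⧸ q)).ne_top (top_le_iff.1 (h ▸ (Ideal.span_singleton_le_iff_mem _).2
      ((map_mem_nonunits_iff π f).2 hf)))
  have hx0 : x ≠ 0 := fun h => hx P₀ hP₀ (h ▸ zero_mem P₀)
  have hfP : π f ∈ P := by
    by_contra hfP
    have hlt : q < P.comap π := lt_of_le_of_ne
      (fun b hb => by rw [Ideal.mem_comap, Ideal.Quotient.eq_zero_iff_mem.2 hb]; exact zero_mem P) fun h => hx0 (by
      obtain ⟨y, rfl⟩ := Ideal.Quotient.mk_surjective x
      exact Ideal.Quotient.eq_zero_iff_mem.2 (h.symm ▸ hxP))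
    exact hmax (P.comap π) ⟨inferInstance, hfP⟩ hlt
  obtain ⟨P', hP', hle⟩ := Ideal.exists_minimalPrimes_le ((Ideal.span_singleton_le_iff_mem P).2 hfP)
  haveI := hP'.1.1
  refine hx P' hP' ?_
  suffices P' = P from this ▸ hxP
  by_contra hne'
  have h1 : P'.height < P.height := Ideal.height_strict_mono_of_isPrime (lt_of_le_of_ne hle hne')
  have hb : (⊥ : Ideal (B ⧸ q)) < P' := bot_lt_iff_ne_bot.2 fun h => hf0 (by
    have := hP'.1.2 (Ideal.mem_span_singleton_self (π f))
    rwa [h, Ideal.mem_bot] at this)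
  have h2 : (⊥ : Ideal (B ⧸ q)).height < P'.height := Ideal.height_strict_mono_of_isPrime hb
  exact absurd (le_trans le_add_self (Order.add_one_le_of_lt h2)) (not_le.2 (h1.trans_le hP1))

end GrothLib.DimForm6
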