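import Mathlib.RingTheory.ZariskisMainTheorem
import Mathlib.RingTheory.EssentialFiniteness
import Mathlib.FieldTheory.IntermediateField.Adjoin.Algebra
import Mathlib.RingTheory.Jacobson.Artinian
import Mathlib.RingTheory.HopkinsLevitzki

/-!
# Zariski's main theorem for local rings essentially of finite type
-/

set_option autoImplicit false
set_option linter.style.haveILetI false
set_option backward.isDefEq.respectTransparency false

universe u

open IsLocalRing

namespace GrothLib.DimForm6

/-- A local ring quasi-finite at its closed point over a ring `P` consists of fractions of elements integral over `P`. -/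
theorem exists_isIntegral_mul_eq {A P B : Type u} [CommRing A] [CommRing P] [CommRing B] [IsLocalRing B]
    [Algebra A P] [Algebra.FiniteType A P] [Algebra A B] [Algebra P B] [IsScalarTower A P B]
    [Algebra.EssFiniteType A B]
    (hqf : Algebra.QuasiFinite P (B ⧸ ((maximalIdeal B).under P).map (algebraMap P B))) (b : B) :
    ∃ c s : B, IsIntegral P c ∧ IsIntegral P s ∧ s ∉ maximalIdeal B ∧ s * b = c := by
  classical
  obtain ⟨gP, hgP⟩ := ‹Algebra.FiniteType A P›
  let C₀ : Subalgebra A B :=
    Algebra.adjoin A ((Algebra.EssFiniteType.finset A B : Set B) ∪ (gP.image (algebraMap P B) : Set B))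
  have hP : ∀ p : P, algebraMap P B p ∈ C₀ := fun p => by
    have h1 : Algebra.adjoin A (gP : Set P) ≤ C₀.comap (IsScalarTower.toAlgHom A P B) := Algebra.adjoin_le
      fun x hx => Algebra.subset_adjoin (Or.inr (Finset.mem_coe.2 (Finset.mem_image_of_mem _ hx)))
    exact h1 (hgP ▸ Algebra.mem_top)
  let C : Subalgebra P B := { C₀.toSubsemiring with algebraMap_mem' := hP }
  haveI : Algebra.FiniteType P C := by
    refine ⟨(Subalgebra.fg_top C).2 ⟨Algebra.EssFiniteType.finset A B, le_antisymm ?_ ?_⟩⟩
    · exact Algebra.adjoin_le fun x hx => Algebra.subset_adjoin (Or.inl hx)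
    · intro y hy
      change y ∈ C₀ at hy
      induction hy using Algebra.adjoin_induction with
      | mem x hx =>
        rcases hx with hx | hx
        · exact Algebra.subset_adjoin hx
        · obtain ⟨p, -, rfl⟩ := Finset.mem_image.1 (Finset.mem_coe.1 hx)
          exact Subalgebra.algebraMap_mem _ p
      | algebraMap r => rw [IsScalarTower.algebraMap_apply A P B]; exact Subalgebra.algebraMap_mem _ _
      | add x y _ _ h1 h2 => exact add_mem h1 h2
      | mul x y _ _ h1 h2 => exact mul_mem h1 h2
  have hfrac : ∀ y : B, ∃ s ∈ C, IsUnit s ∧ s * y ∈ C := fun y => by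
    obtain ⟨⟨z, w⟩, hzw⟩ := IsLocalization.surj (Algebra.EssFiniteType.submonoid A B) y
    have hsub : Algebra.EssFiniteType.subalgebra A B ≤ C₀ := Algebra.adjoin_mono Set.subset_union_left
    exact ⟨w.1.1, hsub w.1.2, w.2, by rw [mul_comm]; exact (show y * w.1.1 = z.1 from hzw) ▸ hsub z.2⟩
  let q : Ideal C := (maximalIdeal B).comap C.val.toRingHom
  haveI : IsLocalization.AtPrime B q :=
    { map_units := fun s => not_not.1 fun h => s.2 h
      surj := fun y => by
        obtain ⟨s, hs, hu, hsy⟩ := hfrac y
        exact ⟨⟨⟨s * y, hsy⟩, ⟨⟨s, hs⟩, fun h => h hu⟩⟩, mul_comm y s⟩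
      exists_of_eq := fun h => ⟨1, by rw [Subtype.ext h]⟩ }
  let e : Localization.AtPrime q ≃ₐ[P] B := (IsLocalization.algEquiv q.primeCompl _ B).restrictScalars P
  haveI : Algebra.WeaklyQuasiFiniteAt P q := by
    rw [Algebra.weaklyQuasiFiniteAt_iff]
    refine (Algebra.QuasiFinite.iff_of_algEquiv (Ideal.quotientEquivAlg _ _ e ?_)).2 hqf
    have hcomp : (e : Localization.AtPrime q →+* B).comp (algebraMap P (Localization.AtPrime q)) = algebraMap P B :=
      RingHom.ext fun p => e.commutes p
    rw [Ideal.map_map]
    exact (congrArg (fun g => Ideal.map g ((maximalIdeal B).under P)) hcomp).symm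
  obtain ⟨r, hrq, hr, H⟩ := Algebra.zariskisMainProperty_iff.1
    (Algebra.ZariskisMainProperty.of_finiteType_of_weaklyQuasiFiniteAt (R := P) q)
  obtain ⟨s, hs, hu, hsb⟩ := hfrac b
  obtain ⟨m, hm⟩ := H ⟨s * b, hsb⟩
  obtain ⟨m', hm'⟩ := H ⟨s, hs⟩
  refine ⟨r.1 ^ m' * (r.1 ^ m * (s * b)), r.1 ^ m * (r.1 ^ m' * s), ((hr.map C.val).pow m').mul (hm.map C.val),
    ((hr.map C.val).pow m).mul (hm'.map C.val), ?_, by ring⟩
  have hru : IsUnit (r.1 : B) := not_not.1 fun h => hrq h
  exact fun h => h ((hru.pow m).mul ((hru.pow m').mul hu))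

/-- An Artinian local algebra whose residue field is algebraic over the residue field of the prime below is quasi-finite. -/
theorem quasiFinite_of_isArtinianRing {A P X : Type u} [CommRing A] [CommRing P] [CommRing X] [IsLocalRing X]
    [IsArtinianRing X] [Algebra A P] [Algebra A X] [Algebra P X] [IsScalarTower A P X] [Algebra.EssFiniteType A X]
    (halg : ∀ z : X ⧸ maximalIdeal X, ∃ p : Polynomial P,
      (∃ i, p.coeff i ∉ (maximalIdeal X).under P) ∧ Polynomial.aeval z p = 0)
    (hk : ((maximalIdeal X).under P).map (algebraMap P X) = ⊥) : Algebra.QuasiFinite P X := by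
  let n : Ideal P := (maximalIdeal X).under P
  let θ : n.ResidueField →ₐ[P] X := Ideal.ResidueField.liftₐ n (Algebra.ofId P X)
    (fun p hp => by
      rw [RingHom.mem_ker]
      exact (Ideal.mem_bot).1 (hk ▸ Ideal.mem_map_of_mem (algebraMap P X) hp))
    (fun p hp => not_not.1 fun h => hp h)
  letI : Algebra n.ResidueField X := θ.toRingHom.toAlgebra
  haveI : IsScalarTower P n.ResidueField X := IsScalarTower.of_algebraMap_eq fun p => (θ.commutes p).symm
  haveI : IsScalarTower A n.ResidueField X := IsScalarTower.of_algebraMap_eq fun a => by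
    rw [IsScalarTower.algebraMap_apply A P n.ResidueField, IsScalarTower.algebraMap_apply A P X]
    exact (θ.commutes _).symm
  haveI : Algebra.EssFiniteType n.ResidueField X := Algebra.EssFiniteType.of_comp A n.ResidueField X
  haveI : Module.Finite n.ResidueField (X ⧸ maximalIdeal X) := by
    letI := Ideal.Quotient.field (maximalIdeal X)
    haveI : Algebra.IsAlgebraic n.ResidueField (X ⧸ maximalIdeal X) := ⟨fun z => by
      obtain ⟨p, ⟨i, hi⟩, hp⟩ := halg z
      refine ⟨p.map (algebraMap P n.ResidueField), fun h0 => hi ?_, by rw [Polynomial.aeval_map_algebraMap]; exact hp⟩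
      have h1 := congrArg (fun f => Polynomial.coeff f i) h0
      simp only [Polynomial.coeff_map, Polynomial.coeff_zero] at h1
      exact Ideal.algebraMap_residueField_eq_zero.1 h1⟩
    exact Algebra.finite_of_essFiniteType_of_isAlgebraic
  haveI : Module.Finite n.ResidueField (X ⧸ Ring.jacobson X) := by
    rw [IsLocalRing.ringJacobson_eq_maximalIdeal]
    infer_instance
  haveI : Module.Finite n.ResidueField X := IsSemiprimaryRing.finite_of_isArtinian n.ResidueField X X
  haveI : Algebra.QuasiFinite P (P ⧸ n) := inferInstance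
  haveI : Algebra.QuasiFinite (P ⧸ n) n.ResidueField := inferInstance
  haveI : Algebra.QuasiFinite P n.ResidueField := Algebra.QuasiFinite.trans P (P ⧸ n) n.ResidueField
  exact Algebra.QuasiFinite.trans P n.ResidueField X

end GrothLib.DimForm6
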